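import Mathlib.AlgebraicGeometry.Morphisms.Finite
import Mathlib.AlgebraicGeometry.Limits

/-!
A scheme covered by finitely many open and closed subschemes finite over the base is finite.
-/

set_option autoImplicit false
set_option linter.style.haveILetI false

universe u

open CategoryTheory CategoryTheory.Limits AlgebraicGeometry TopologicalSpace

namespace Groth.L28.EtaleStrata

variable {W T : Scheme.{u}} (q : W ⟶ T)

theorem isFinite_of_isClopen {U V : W.Opens} (h : V ≤ U) (hV : IsClosed (V : Set W)) [IsFinite (U.ι ≫ q)] :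
    IsFinite (V.ι ≫ q) := by
  have hr : IsClosedImmersion (W.homOfLE h) := by
    refine IsClosedImmersion.of_isPreimmersion _ ?_
    have : Set.range (W.homOfLE h) = U.ι ⁻¹' (V : Set W) := by
      ext x
      constructor
      · rintro ⟨y, rfl⟩
        show U.ι (W.homOfLE h y) ∈ (V : Set W)
        rw [← Scheme.Hom.comp_apply, Scheme.homOfLE_ι]
        exact y.2
      · intro hx
        refine ⟨⟨U.ι x, hx⟩, U.ι.isOpenEmbedding.injective ?_⟩
        exact congr($(Scheme.homOfLE_ι W h) (⟨U.ι x, hx⟩ : V.toScheme))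
    rw [this]
    exact hV.preimage U.ι.continuous
  rw [← Scheme.homOfLE_ι _ h, Category.assoc]
  infer_instance

theorem isFinite_sup {U V : W.Opens} (hd : Disjoint U V) [IsFinite (U.ι ≫ q)] [IsFinite (V.ι ≫ q)] :
    IsFinite ((U ⊔ V).ι ≫ q) := by
  let a := W.homOfLE (le_sup_left : U ≤ U ⊔ V)
  let b := W.homOfLE (le_sup_right : V ≤ U ⊔ V)
  have ha : ∀ z, z ∈ a.opensRange ↔ ((U ⊔ V).ι z) ∈ U := fun z => by
    constructor
    · rintro ⟨y, rfl⟩
      rw [← Scheme.Hom.comp_apply, Scheme.homOfLE_ι]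
      exact y.2
    · intro hz
      refine ⟨⟨(U ⊔ V).ι z, hz⟩, (U ⊔ V).ι.isOpenEmbedding.injective ?_⟩
      exact congr($(Scheme.homOfLE_ι W (le_sup_left : U ≤ U ⊔ V)) (⟨(U ⊔ V).ι z, hz⟩ : U.toScheme))
  have hb : ∀ z, z ∈ b.opensRange ↔ ((U ⊔ V).ι z) ∈ V := fun z => by
    constructor
    · rintro ⟨y, rfl⟩
      rw [← Scheme.Hom.comp_apply, Scheme.homOfLE_ι]
      exact y.2
    · intro hz
      refine ⟨⟨(U ⊔ V).ι z, hz⟩, (U ⊔ V).ι.isOpenEmbedding.injective ?_⟩
      exact congr($(Scheme.homOfLE_ι W (le_sup_right : V ≤ U ⊔ V)) (⟨(U ⊔ V).ι z, hz⟩ : V.toScheme))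
  have hc : IsCompl a.opensRange b.opensRange := by
    constructor
    · rw [disjoint_iff, eq_bot_iff]
      intro z hz
      exact (Set.disjoint_left.1 (Opens.coe_disjoint.2 hd) ((ha z).1 hz.1) ((hb z).1 hz.2)).elim
    · rw [codisjoint_iff, eq_top_iff]
      intro z _
      rcases (show (U ⊔ V).ι z ∈ U ⊔ V from z.2) with h | h
      exacts [Or.inl ((ha z).2 h), Or.inr ((hb z).2 h)]
  obtain ⟨hl⟩ := nonempty_isColimit_binaryCofanMk_of_isCompl a b hc
  let e : (U ⊔ V).toScheme ≅ U.toScheme ⨿ V.toScheme :=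
    hl.coconePointUniqueUpToIso (colimit.isColimit (pair U.toScheme V.toScheme))
  have : (U ⊔ V).ι ≫ q = e.hom ≫ coprod.desc (U.ι ≫ q) (V.ι ≫ q) := by
    refine BinaryCofan.IsColimit.hom_ext hl ?_ ?_
    · show a ≫ (U ⊔ V).ι ≫ q = a ≫ e.hom ≫ coprod.desc (U.ι ≫ q) (V.ι ≫ q)
      rw [← Category.assoc, ← Category.assoc,
        show a ≫ e.hom = coprod.inl from hl.comp_coconePointUniqueUpToIso_hom _ ⟨WalkingPair.left⟩, coprod.inl_desc,
        Scheme.homOfLE_ι]
    · show b ≫ (U ⊔ V).ι ≫ q = b ≫ e.hom ≫ coprod.desc (U.ι ≫ q) (V.ι ≫ q)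
      rw [← Category.assoc, ← Category.assoc,
        show b ≫ e.hom = coprod.inr from hl.comp_coconePointUniqueUpToIso_hom _ ⟨WalkingPair.right⟩, coprod.inr_desc,
        Scheme.homOfLE_ι]
  rw [this]
  infer_instance

/-- a finite cover by closed opens finite over the base -/
theorem isFinite_of_clopen_cover {ι : Type*} [Finite ι] (A : ι → W.Opens) (hA : ∀ k, IsClosed (A k : Set W))
    (hcov : ∀ w, ∃ k, w ∈ A k) (hf : ∀ k, IsFinite ((A k).ι ≫ q)) : IsFinite q := by
  classical
  haveI := Fintype.ofFinite ι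
  have key : ∀ s : Finset ι, IsClosed ((s.sup A : W.Opens) : Set W) ∧ IsFinite ((s.sup A : W.Opens).ι ≫ q) := by
    intro s
    induction s using Finset.induction with
    | empty =>
      rw [Finset.sup_empty]
      refine ⟨by simp, ?_⟩
      haveI : IsEmpty (⊥ : W.Opens).toScheme := ⟨fun x => x.2⟩
      infer_instance
    | insert k s hk ih =>
      obtain ⟨hs, hsf⟩ := ih
      haveI := hsf
      haveI := hf k
      let V : W.Opens := A k ⊓ ⟨_, hs.isOpen_compl⟩
      haveI : IsFinite (V.ι ≫ q) := isFinite_of_isClopen q inf_le_left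
        ((hA k).inter (s.sup A).isOpen.isClosed_compl)
      have e : (insert k s).sup A = s.sup A ⊔ V := by
        rw [Finset.sup_insert]
        refine Opens.ext (Set.ext fun w => ?_)
        simp only [V, Opens.coe_sup, Opens.coe_inf, Set.mem_union, Set.mem_inter_iff, Opens.coe_mk, Set.mem_compl_iff]
        tauto
      rw [e]
      refine ⟨by rw [Opens.coe_sup]; exact hs.union ((hA k).inter (s.sup A).isOpen.isClosed_compl), ?_⟩
      exact isFinite_sup q (Opens.coe_disjoint.1 (Set.disjoint_left.2 fun w h1 h2 => h2.2 h1))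
  obtain ⟨-, h⟩ := key Finset.univ
  have e : Finset.univ.sup A = ⊤ := eq_top_iff.2 fun w _ => by
    obtain ⟨k, hk⟩ := hcov w
    exact (Finset.le_sup (f := A) (Finset.mem_univ k)) hk
  rw [e] at h
  haveI := h
  rw [← Category.id_comp q, ← W.topIso.inv_hom_id, Category.assoc, show W.topIso.hom = (⊤ : W.Opens).ι from rfl]
  infer_instance

end Groth.L28.EtaleStrata
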