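import Groth.Agent.L28.EtaleStrata.GenFinite
import Groth.Agent.L28.EtaleStrata.Disjoint
import Groth.Agent.L28.Strata.Basic
import Mathlib.RingTheory.Smooth.NoetherianDescent
import Mathlib.AlgebraicGeometry.Morphisms.Etale
import Mathlib.AlgebraicGeometry.Pullbacks
import Mathlib.AlgebraicGeometry.Noetherian

/-!
An étale morphism of quasi-compact quasi-separated schemes is finite over the strata of a stratification.
-/

set_option autoImplicit false
set_option linter.style.haveILetI false

universe u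

open CategoryTheory CategoryTheory.Limits AlgebraicGeometry TopologicalSpace Topology TensorProduct

set_option backward.isDefEq.respectTransparency.types false

namespace Groth.L28.EtaleStrata

open Strata

variable {U X : Scheme.{u}}

/-- finiteness after base change -/
abbrev finPred (f : U ⟶ X) : SPred X := fun _ g => IsFinite (pullback.snd f g)

theorem finPred_snd (f : U ⟶ X) {X' : Scheme.{u}} (h : X' ⟶ X) {T : Scheme.{u}} (g : T ⟶ X') :
    finPred (pullback.snd f h) g ↔ finPred f (g ≫ h) := by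
  show IsFinite _ ↔ IsFinite _
  rw [← pullbackLeftPullbackSndIso_hom_snd f h g]
  constructor
  · intro hf
    haveI : IsFinite ((pullbackLeftPullbackSndIso f h g).inv ≫
      (pullbackLeftPullbackSndIso f h g).hom ≫ pullback.snd f (g ≫ h)) := inferInstance
    rwa [Iso.inv_hom_id_assoc] at this
  · intro hf
    infer_instance

theorem stable_finPred (f : U ⟶ X) : Stable (finPred f) := fun T T' k g hg => by
  haveI : IsFinite (pullback.snd f g) := hg
  refine (finPred_snd f g k).1 ?_
  exact MorphismProperty.pullback_snd _ _ hg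

theorem isFinite_snd_Spec (R C A : Type u) [CommRing R] [CommRing C] [CommRing A] [Algebra R C] [Algebra R A]
    [Module.Finite C (C ⊗[R] A)] :
    IsFinite (pullback.snd (Spec.map (CommRingCat.ofHom (algebraMap R A))) (Spec.map (CommRingCat.ofHom (algebraMap R C)))) := by
  let e := (pullbackSymmetry (Spec.map (CommRingCat.ofHom (algebraMap R A))) (Spec.map (CommRingCat.ofHom (algebraMap R C)))) ≪≫
    pullbackSpecIso R C A
  have : pullback.snd (Spec.map (CommRingCat.ofHom (algebraMap R A))) (Spec.map (CommRingCat.ofHom (algebraMap R C))) =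
      e.hom ≫ Spec.map (CommRingCat.ofHom (algebraMap C (C ⊗[R] A))) := by
    rw [Iso.trans_hom, Category.assoc]
    erw [pullbackSpecIso_hom_fst]
    exact (pullbackSymmetry_hom_comp_fst _ _).symm
  rw [this]
  haveI : IsFinite (Spec.map (CommRingCat.ofHom (algebraMap C (C ⊗[R] A)))) :=
    (IsFinite.SpecMap_iff _).2 (RingHom.finite_algebraMap.mpr inferInstance)
  infer_instance

/-- the affine noetherian case -/
theorem strat_noetherian (R A : Type u) [CommRing R] [IsNoetherianRing R] [CommRing A] [Algebra R A] [Algebra.Etale R A] :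
    Strat (Spec (CommRingCat.of R)) (finPred (Spec.map (CommRingCat.ofHom (algebraMap R A)))) := by
  let P := finPred (Spec.map (CommRingCat.ofHom (algebraMap R A)))
  let Pieces : Ideal R → Prop := fun I => ∃ (n : ℕ) (T : Fin n → Scheme.{u}) (g : ∀ i, T i ⟶ Spec (CommRingCat.of R)),
    (∀ i, IsImmersion (g i)) ∧ (∀ i, P (g i)) ∧ PrimeSpectrum.zeroLocus (I : Set R) ⊆ ⋃ i, Set.range (g i)
  suffices H : ∀ I, Pieces I by
    obtain ⟨n, T, g, h1, h2, h3⟩ := H ⊥
    haveI : IsNoetherian (Spec (CommRingCat.of R)) := inferInstance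
    refine strat_of_pieces (stable_finPred _) g h1 (fun i => ?_) ?_ h2
    · haveI := h1 i
      obtain ⟨O, Z, hO, hZ, e⟩ := (g i).isLocallyClosed_range
      have hret : ∀ s : Set (Spec (CommRingCat.of R)), IsRetrocompact s := fun s _ _ _ => NoetherianSpace.isCompact _
      rw [e, ← compl_compl Z]
      exact ((hret O).isConstructible hO).inter (((hret _).isConstructible hZ.isOpen_compl).compl)
    · exact Set.eq_univ_of_forall fun x => h3 (by simp)
  intro I
  induction I using IsNoetherian.induction with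
  | hgt I ih =>
    by_cases htop : I = ⊤
    · subst htop
      exact ⟨0, Fin.elim0, fun i => i.elim0, fun i => i.elim0, fun i => i.elim0, by simp⟩
    by_cases hp : Ideal.IsPrime I
    · obtain ⟨g, hg, hfin⟩ := exists_finite (A := A) I
      obtain ⟨n, T, q, h1, h2, h3⟩ := ih (I ⊔ Ideal.span {g})
        (left_lt_sup.mpr fun h => hg (h (Ideal.mem_span_singleton_self g)))
      let C := Localization.Away (Ideal.Quotient.mk I g)
      haveI : IsScalarTower R (R ⧸ I) C := inferInstance
      let q₀ : Spec (CommRingCat.of C) ⟶ Spec (CommRingCat.of R) := Spec.map (CommRingCat.ofHom (algebraMap R C))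
      have himm : IsImmersion q₀ := by
        haveI : IsClosedImmersion (Spec.map (CommRingCat.ofHom (Ideal.Quotient.mk I))) :=
          IsClosedImmersion.spec_of_surjective _ Ideal.Quotient.mk_surjective
        haveI : IsOpenImmersion (Spec.map (CommRingCat.ofHom (algebraMap (R ⧸ I) C))) :=
          IsOpenImmersion.of_isLocalization (Ideal.Quotient.mk I g)
        have : q₀ = Spec.map (CommRingCat.ofHom (algebraMap (R ⧸ I) C)) ≫ Spec.map (CommRingCat.ofHom (Ideal.Quotient.mk I)) := by
          rw [← Spec.map_comp, ← CommRingCat.ofHom_comp]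
        rw [this]
        infer_instance
      have hP : P q₀ := by
        haveI := hfin C (by
            rw [IsScalarTower.algebraMap_apply R (R ⧸ I) C]
            exact IsLocalization.Away.algebraMap_isUnit (Ideal.Quotient.mk I g))
          (by rw [IsScalarTower.algebraMap_eq R (R ⧸ I) C, ← Ideal.map_map, Ideal.Quotient.algebraMap_eq,
            Ideal.map_quotient_self, Ideal.map_bot])
        exact isFinite_snd_Spec R C A
      refine ⟨n + 1, Fin.cases (Spec (CommRingCat.of C)) T, Fin.cases q₀ q, Fin.cases himm h1, Fin.cases hP h2, ?_⟩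
      intro x hx
      by_cases hgx : g ∈ x.asIdeal
      · obtain ⟨i, hi⟩ := Set.mem_iUnion.1 (h3 (show x ∈ PrimeSpectrum.zeroLocus ((I ⊔ Ideal.span {g} : Ideal R) : Set R) from
          (PrimeSpectrum.mem_zeroLocus _ _).2 (SetLike.coe_subset_coe.2 (sup_le (SetLike.coe_subset_coe.1 ((PrimeSpectrum.mem_zeroLocus _ _).1 hx))
            ((Ideal.span_singleton_le_iff_mem _).2 hgx)))))
        exact Set.mem_iUnion.2 ⟨i.succ, hi⟩
      · refine Set.mem_iUnion.2 ⟨0, ?_⟩
        show x ∈ Set.range (PrimeSpectrum.comap (algebraMap R C))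
        rw [IsScalarTower.algebraMap_eq R (R ⧸ I) C, PrimeSpectrum.comap_comp, Set.range_comp,
          PrimeSpectrum.localization_away_comap_range C (Ideal.Quotient.mk I g)]
        have hx' : x ∈ Set.range (PrimeSpectrum.comap (algebraMap R (R ⧸ I))) := by
          rw [Ideal.Quotient.algebraMap_eq, range_comap_of_surjective _ _ Ideal.Quotient.mk_surjective,
            Ideal.mk_ker]
          exact hx
        obtain ⟨y, rfl⟩ := hx'
        exact ⟨y, hgx, rfl⟩
    · obtain ⟨a, ha, b, hb, hab⟩ := (Ideal.not_isPrime_iff.1 hp).resolve_left htop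
      obtain ⟨n, T, q, h1, h2, h3⟩ := ih (I ⊔ Ideal.span {a})
        (left_lt_sup.mpr fun h => ha (h (Ideal.mem_span_singleton_self a)))
      obtain ⟨n', T', q', h1', h2', h3'⟩ := ih (I ⊔ Ideal.span {b})
        (left_lt_sup.mpr fun h => hb (h (Ideal.mem_span_singleton_self b)))
      refine ⟨n + n', Fin.addCases T T', fun i => Fin.addCases (motive := fun i => Fin.addCases T T' i ⟶ Spec (CommRingCat.of R))
        (fun i => eqToHom (by simp) ≫ q i) (fun i => eqToHom (by simp) ≫ q' i) i, fun i => ?_, fun i => ?_, ?_⟩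
      · induction i using Fin.addCases with
        | left i => simp only [Fin.addCases_left]; haveI := h1 i; infer_instance
        | right i => simp only [Fin.addCases_right]; haveI := h1' i; infer_instance
      · induction i using Fin.addCases with
        | left i => simp only [Fin.addCases_left]; exact stable_finPred _ _ _ (h2 i)
        | right i => simp only [Fin.addCases_right]; exact stable_finPred _ _ _ (h2' i)
      · intro x hx
        have hle : I ≤ x.asIdeal := SetLike.coe_subset_coe.1 ((PrimeSpectrum.mem_zeroLocus _ _).1 hx)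
        rcases x.isPrime.mem_or_mem (hle hab) with h | h
        · obtain ⟨i, y, hy⟩ := Set.mem_iUnion.1 (h3 (show x ∈ PrimeSpectrum.zeroLocus ((I ⊔ Ideal.span {a} : Ideal R) : Set R) from
            (PrimeSpectrum.mem_zeroLocus _ _).2 (SetLike.coe_subset_coe.2 (sup_le hle ((Ideal.span_singleton_le_iff_mem _).2 h)))))
          exact Set.mem_iUnion.2 ⟨Fin.castAdd n' i, by
            simp only [Fin.addCases_left]
            exact ⟨(eqToIso (show Fin.addCases T T' (Fin.castAdd n' i) = T i by simp)).inv y, by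
              rw [← hy, ← Scheme.Hom.comp_apply]; simp⟩⟩
        · obtain ⟨i, y, hy⟩ := Set.mem_iUnion.1 (h3' (show x ∈ PrimeSpectrum.zeroLocus ((I ⊔ Ideal.span {b} : Ideal R) : Set R) from
            (PrimeSpectrum.mem_zeroLocus _ _).2 (SetLike.coe_subset_coe.2 (sup_le hle ((Ideal.span_singleton_le_iff_mem _).2 h)))))
          exact Set.mem_iUnion.2 ⟨Fin.natAdd n i, by
            simp only [Fin.addCases_right]
            exact ⟨(eqToIso (show Fin.addCases T T' (Fin.natAdd n i) = T' i by simp)).inv y, by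
              rw [← hy, ← Scheme.Hom.comp_apply]; simp⟩⟩

/-- transport along an isomorphism of the source -/
theorem strat_of_iso {V : Scheme.{u}} {f : U ⟶ X} {f' : V ⟶ X} (e : V ≅ U) (he : e.hom ≫ f = f')
    (h : Strat X (finPred f)) : Strat X (finPred f') := by
  refine h.mono fun T g hg => ?_
  subst he
  haveI : IsFinite (pullback.snd f g) := hg
  haveI : IsIso (pullback.map (e.hom ≫ f) g f g e.hom (𝟙 _) (𝟙 _) (by simp) (by simp)) := inferInstance
  show IsFinite (pullback.snd (e.hom ≫ f) g)
  rw [show pullback.snd (e.hom ≫ f) g = pullback.map (e.hom ≫ f) g f g e.hom (𝟙 _) (𝟙 _) (by simp) (by simp) ≫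
    pullback.snd f g by rw [pullback.lift_snd, Category.comp_id]]
  infer_instance

/-- the affine case -/
theorem strat_affine (R A : Type u) [CommRing R] [CommRing A] [Algebra R A] [Algebra.Etale R A] :
    Strat (Spec (CommRingCat.of R)) (finPred (Spec.map (CommRingCat.ofHom (algebraMap R A)))) := by
  obtain ⟨R₀, A₀, _, _, hfg, hA₀, ⟨e⟩⟩ := Algebra.Etale.exists_subalgebra_fg (R := ℤ) (A := R) (B := A)
  haveI := hA₀
  haveI : Algebra.FiniteType ℤ R₀ := (Subalgebra.fg_iff_finiteType R₀).1 hfg
  haveI : IsNoetherianRing R₀ := Algebra.FiniteType.isNoetherianRing ℤ R₀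
  let f₀ := Spec.map (CommRingCat.ofHom (algebraMap R₀ A₀))
  let h := Spec.map (CommRingCat.ofHom (algebraMap R₀ R))
  have h1 : Strat (Spec (CommRingCat.of R)) (finPred (pullback.snd f₀ h)) :=
    ((strat_noetherian R₀ A₀).pullback (stable_finPred f₀) h).mono fun T g hg => (finPred_snd f₀ h g).2 hg
  refine strat_of_iso (Scheme.Spec.mapIso (e.toRingEquiv.toCommRingCatIso.symm.op) ≪≫
    (pullbackSymmetry _ _ ≪≫ pullbackSpecIso R₀ R A₀).symm) ?_ h1
  rw [Iso.trans_hom, Iso.symm_hom, Category.assoc, Iso.trans_inv, Category.assoc, pullbackSymmetry_inv_comp_snd]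
  erw [pullbackSpecIso_inv_fst]
  show Spec.map _ ≫ Spec.map _ = _
  rw [← Spec.map_comp]
  congr 1
  ext r
  exact e.symm.commutes r

theorem strat_affine_scheme [IsAffine U] [IsAffine X] (f : U ⟶ X) [AlgebraicGeometry.Etale f] :
    Strat X (finPred f) := by
  letI := f.appTop.hom.toAlgebra
  haveI : Algebra.Etale Γ(X, ⊤) Γ(U, ⊤) := (HasRingHomProperty.appTop (P := @AlgebraicGeometry.Etale) f ‹_›)
  have h := (strat_affine Γ(X, ⊤) Γ(U, ⊤)).pullback (stable_finPred _) X.isoSpec.hom
  refine strat_of_iso (IsPullback.isoPullback (fst := U.isoSpec.hom) (snd := f) ?_) (IsPullback.isoPullback_hom_snd _)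
    (h.mono fun T g hg => (finPred_snd _ X.isoSpec.hom g).2 hg)
  exact IsPullback.of_horiz_isIso ⟨Scheme.isoSpec_hom_naturality f⟩

/-- stratifications for finitely many predicates -/
theorem strat_forall [CompactSpace X] [QuasiSeparatedSpace X] {ι : Type*} [Finite ι] (P : ι → SPred X)
    (hP : ∀ k, Stable (P k)) (h : ∀ k, Strat X (P k)) : Strat X (fun _ g => ∀ k, P k g) := by
  classical
  haveI := Fintype.ofFinite ι
  suffices H : ∀ s : Finset ι, Strat X (fun _ g => ∀ k ∈ s, P k g) from
    (H Finset.univ).mono fun T g hg k => hg k (Finset.mem_univ k)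
  intro s
  induction s using Finset.induction with
  | empty =>
    refine strat_of_pieces (fun _ _ _ _ _ k hk => absurd hk (Finset.notMem_empty k)) (ι := PUnit.{1}) (fun _ => 𝟙 X)
      (fun _ => inferInstance) (fun _ => ?_) ?_ (fun _ k hk => absurd hk (Finset.notMem_empty k))
    · rw [show Set.range (𝟙 X : X ⟶ X) = Set.univ by simp]; exact IsConstructible.univ
    · simp [Set.iUnion_const]
  | insert a s _ ih =>
    have hs : Stable (fun _ g => ∀ k ∈ s, P k g : SPred X) := fun _ _ k g hg l hl => hP l k g (hg l hl)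
    refine ((h a).and (hP a) hs ih).mono fun T g hg k hk => ?_
    rcases Finset.mem_insert.1 hk with rfl | hk
    exacts [hg.1, hg.2 k hk]

/-- finiteness of an open piece over a stratum -/
theorem isFinite_preimage {T : Scheme.{u}} (f : U ⟶ X) (g : T ⟶ X) (V : U.Opens) (h : finPred (V.ι ≫ f) g) :
    IsFinite ((pullback.fst f g ⁻¹ᵁ V).ι ≫ pullback.snd f g) := by
  have sq := (isPullback_morphismRestrict (pullback.fst f g) V).flip.paste_horiz (IsPullback.of_hasPullback f g).flip
  haveI : IsFinite (pullback.snd (V.ι ≫ f) g) := h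
  rw [← sq.flip.isoPullback_hom_snd]
  infer_instance

/-- a base affine, the source quasi-compact quasi-separated -/
theorem strat_of_isAffine [IsAffine X] [CompactSpace U] [QuasiSeparatedSpace U] (f : U ⟶ X) [AlgebraicGeometry.Etale f] :
    Strat X (finPred f) := by
  classical
  obtain ⟨S, hS⟩ := isCompact_univ.elim_finite_subcover (fun V : U.affineOpens => (V.1 : Set U))
    (fun V => V.1.2) fun x _ => by
      obtain ⟨_, ⟨V, hV, rfl⟩, hxV, -⟩ := U.isBasis_affineOpens.exists_subset_of_mem_open (Set.mem_univ x) isOpen_univ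
      exact Set.mem_iUnion.2 ⟨⟨V, hV⟩, hxV⟩
  have hW : ∀ k l : ↥S, ∃ W : Set U.affineOpens, W.Finite ∧ (k.1.1 ⊓ l.1.1 : U.Opens) = ⨆ w : W, (w.1.1 : U.Opens) := fun k l => by
    have hc : IsCompact ((k.1.1 ⊓ l.1.1 : U.Opens) : Set U) :=
      QuasiSeparatedSpace.inter_isCompact _ _ k.1.1.2 k.1.2.isCompact l.1.1.2 l.1.2.isCompact
    exact (isCompact_and_isOpen_iff_finite_and_eq_biUnion_affineOpens.1 ⟨hc, (k.1.1 ⊓ l.1.1).2⟩).imp
      fun W hW => ⟨hW.1, Opens.ext (by rw [hW.2, Opens.coe_iSup]; simp [Set.iUnion_subtype])⟩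
  choose W hWf hWeq using hW
  haveI : ∀ k l, Finite (W k l) := fun k l => (hWf k l).to_subtype
  let ι := ↥S ⊕ (Σ k : ↥S, Σ l : ↥S, W k l)
  let V : ι → U.affineOpens := Sum.elim (fun k => k.1) (fun a => a.2.2.1)
  have hstrat := strat_forall (fun a => finPred ((V a).1.ι ≫ f)) (fun a => stable_finPred _) fun a => by
    haveI : IsAffine (V a).1.toScheme := (V a).2
    exact strat_affine_scheme _
  refine hstrat.mono fun T g hg => ?_
  let p := pullback.fst f g
  let A : ↥S → (pullback f g).Opens := fun k => p ⁻¹ᵁ k.1.1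
  have hA : ∀ k, IsFinite ((A k).ι ≫ pullback.snd f g) := fun k => isFinite_preimage f g k.1.1 (hg (Sum.inl k))
  have hAcov : ∀ z, ∃ k, z ∈ A k := fun z => by
    obtain ⟨V', hV'S, hz⟩ := Set.mem_iUnion₂.1 (hS (Set.mem_univ (p z)))
    exact ⟨⟨V', hV'S⟩, hz⟩
  refine isFinite_of_clopen_cover _ A (fun k => ?_) hAcov hA
  rw [← isOpen_compl_iff, isOpen_iff_forall_mem_open]
  intro z hz
  obtain ⟨l, hl⟩ := hAcov z
  haveI := hA l
  have hcl : IsClosed ((A l).ι ⁻¹' (A k : Set _)) := by
    have hle : ∀ w : W k l, w.1.1 ≤ l.1.1 := fun w =>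
      (le_iSup (fun w : W k l => (w.1.1 : U.Opens)) w).trans ((hWeq k l).symm.le.trans inf_le_right)
    have key : (A l).ι ⁻¹' (A k : Set _) = ⋃ w : W k l, Set.range ((pullback f g).homOfLE
        (p.preimage_mono (hle w))) := by
      ext y
      rw [Set.mem_iUnion]
      constructor
      · intro hy
        have : p ((A l).ι y) ∈ (⨆ w : W k l, (w.1.1 : U.Opens)) := (hWeq k l) ▸ ⟨hy, y.2⟩
        obtain ⟨w, hw⟩ := Opens.mem_iSup.1 this
        exact ⟨w, ⟨(A l).ι y, hw⟩, (A l).ι.isOpenEmbedding.injective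
          (congr($(Scheme.homOfLE_ι (pullback f g) (p.preimage_mono (hle w))) (⟨(A l).ι y, hw⟩ : (p ⁻¹ᵁ w.1.1).toScheme)))⟩
      · rintro ⟨w, y', rfl⟩
        have h1 : p ((p ⁻¹ᵁ w.1.1).ι y') ∈ k.1.1 ⊓ l.1.1 := by
          rw [hWeq k l]
          exact Opens.mem_iSup.2 ⟨w, y'.2⟩
        show (A l).ι ((pullback f g).homOfLE (p.preimage_mono (hle w)) y') ∈ A k
        rw [show (A l).ι ((pullback f g).homOfLE (p.preimage_mono (hle w)) y') = (p ⁻¹ᵁ w.1.1).ι y' from
          congr($(Scheme.homOfLE_ι (pullback f g) (p.preimage_mono (hle w))) y')]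
        exact h1.1
    rw [key]
    refine isClosed_iUnion_of_finite fun w => ?_
    let i := (pullback f g).homOfLE (p.preimage_mono (hle w))
    haveI : IsFinite ((p ⁻¹ᵁ w.1.1).ι ≫ pullback.snd f g) := isFinite_preimage f g w.1.1 (hg (Sum.inr ⟨k, l, w⟩))
    haveI : IsFinite (i ≫ (A l).ι ≫ pullback.snd f g) := by
      rw [← Category.assoc, Scheme.homOfLE_ι]
      infer_instance
    haveI : IsFinite i := IsFinite.of_comp i ((A l).ι ≫ pullback.snd f g)
    exact i.isClosedMap.isClosed_range
  refine ⟨(A l).ι '' ((A l).ι ⁻¹' (A k : Set _))ᶜ, ?_, (A l).ι.isOpenEmbedding.isOpenMap _ hcl.isOpen_compl, ?_⟩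
  · rintro _ ⟨y, hy, rfl⟩
    exact hy
  · exact ⟨⟨z, hl⟩, hz, rfl⟩

/-- étale morphisms are finite over strata -/
theorem strat_finPred [CompactSpace U] [QuasiSeparatedSpace U] [CompactSpace X] [QuasiSeparatedSpace X]
    (f : U ⟶ X) [AlgebraicGeometry.Etale f] : Strat X (finPred f) := by
  obtain ⟨S, hS⟩ := isCompact_univ.elim_finite_subcover (fun V : X.affineOpens => (V.1 : Set X))
    (fun V => V.1.2) fun x _ => by
      obtain ⟨_, ⟨V, hV, rfl⟩, hxV, -⟩ := X.isBasis_affineOpens.exists_subset_of_mem_open (Set.mem_univ x) isOpen_univ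
      exact Set.mem_iUnion.2 ⟨⟨V, hV⟩, hxV⟩
  refine strat_of_cover (stable_finPred f) (fun k : ↥S => k.1.1) (fun k => k.1.2.isCompact) (fun x => ?_) fun k => ?_
  · obtain ⟨V, hV, hx⟩ := Set.mem_iUnion₂.1 (hS (Set.mem_univ x))
    exact ⟨⟨V, hV⟩, hx⟩
  haveI : IsAffine k.1.1.toScheme := k.1.2
  haveI : QuasiCompact f := inferInstance
  haveI : CompactSpace ↥(pullback f k.1.1.ι) :=
    QuasiCompact.compactSpace_of_compactSpace (pullback.snd f k.1.1.ι)
  haveI : QuasiSeparatedSpace ↥(pullback f k.1.1.ι) :=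
    quasiSeparatedSpace_of_quasiSeparated (pullback.fst f k.1.1.ι)
  exact (strat_of_isAffine (pullback.snd f k.1.1.ι)).mono fun T g hg => (finPred_snd f k.1.1.ι g).1 hg

end Groth.L28.EtaleStrata
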