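import Mathlib.RingTheory.Etale.Basic
import Mathlib.RingTheory.Unramified.Field
import Mathlib.RingTheory.Localization.BaseChange
import Mathlib.RingTheory.Localization.FractionRing
import Mathlib.RingTheory.TensorProduct.Finite
import Mathlib.RingTheory.IntegralClosure.IsIntegralClosure.Basic
import Mathlib.LinearAlgebra.TensorProduct.Quotient

/-!
An étale algebra is finite over a dense open of each integral closed subscheme of the base.
-/

set_option autoImplicit false
set_option linter.style.haveILetI false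

universe u

open TensorProduct Polynomial

namespace Groth.L28.EtaleStrata

variable {R A : Type u} [CommRing R] [CommRing A] [Algebra R A] (P : Ideal R) [P.IsPrime]

/-- elements vanishing in the generic fibre over `V(P)` -/
theorem exists_smul_mem {y : A}
    (hy : (1 : FractionRing (R ⧸ P)) ⊗ₜ[R] y = 0) : ∃ s : R, s ∉ P ∧ s • y ∈ (P • ⊤ : Submodule R A) := by
  let D := R ⧸ P
  let K := FractionRing (R ⧸ P)
  have h1 : (1 : K) ⊗ₜ[D] ((1 : D) ⊗ₜ[R] y) = 0 := by
    apply (TensorProduct.AlgebraTensorModule.cancelBaseChange R D K K A).injective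
    rw [map_zero, TensorProduct.AlgebraTensorModule.cancelBaseChange_tmul, one_smul]
    exact hy
  haveI : IsLocalizedModule (nonZeroDivisors D) (TensorProduct.mk D K (D ⊗[R] A) 1) :=
    (isLocalizedModule_iff_isBaseChange (nonZeroDivisors D) K _).mpr (TensorProduct.isBaseChange _ _ _)
  obtain ⟨⟨t, ht⟩, hts⟩ := (IsLocalizedModule.eq_zero_iff (nonZeroDivisors D)
    (TensorProduct.mk D K (D ⊗[R] A) 1)).1 h1
  obtain ⟨s, rfl⟩ := Ideal.Quotient.mk_surjective t
  refine ⟨s, fun hs => nonZeroDivisors.ne_zero ht (Ideal.Quotient.eq_zero_iff_mem.mpr hs), ?_⟩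
  have h2 : (Ideal.Quotient.mk P s : D) ⊗ₜ[R] y = 0 := by
    rw [← hts, Submonoid.smul_def, TensorProduct.smul_tmul', smul_eq_mul, mul_one]
  have h3 := congrArg (TensorProduct.quotTensorEquivQuotSMul A P) h2
  rw [TensorProduct.quotTensorEquivQuotSMul_mk_tmul, map_zero] at h3
  exact (Submodule.Quotient.mk_eq_zero _).1 h3

variable [Algebra.Etale R A]

theorem exists_finite :
    ∃ g : R, g ∉ P ∧ ∀ (C : Type u) [CommRing C] [Algebra R C], IsUnit (algebraMap R C g) →
      P.map (algebraMap R C) = ⊥ → Module.Finite C (C ⊗[R] A) := by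
  classical
  let D := R ⧸ P
  let K := FractionRing (R ⧸ P)
  haveI : Algebra.Etale K (K ⊗[R] A) := inferInstance
  haveI : Algebra.EssFiniteType K (K ⊗[R] A) := inferInstance
  haveI : Module.Finite K (K ⊗[R] A) := Algebra.FormallyUnramified.finite_of_free K (K ⊗[R] A)
  obtain ⟨S, hS⟩ := (inferInstance : Algebra.FiniteType R A).out
  have key : ∀ x : A, ∃ (p : R[X]) (g : R), g ∉ P ∧ ∀ (C : Type u) [CommRing C] [Algebra R C],
      IsUnit (algebraMap R C g) → P.map (algebraMap R C) = ⊥ → IsIntegral C ((1 : C) ⊗ₜ[R] x) := by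
    intro x
    obtain ⟨q, hqm, hq⟩ : IsIntegral K ((1 : K) ⊗ₜ[R] x) := IsIntegral.of_finite K _
    obtain ⟨b, hb⟩ := IsLocalization.integerNormalization_map_to_map (nonZeroDivisors D) q
    obtain ⟨p, hp⟩ := Polynomial.map_surjective (Ideal.Quotient.mk P) Ideal.Quotient.mk_surjective
      (IsLocalization.integerNormalization (nonZeroDivisors D) q)
    obtain ⟨b', hb'⟩ := Ideal.Quotient.mk_surjective (b : D)
    have hbP : b' ∉ P := fun h => nonZeroDivisors.ne_zero b.2 (hb' ▸ Ideal.Quotient.eq_zero_iff_mem.mpr h)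
    have hpK : p.map (algebraMap R K) = (algebraMap D K b) • q := by
      rw [IsScalarTower.algebraMap_eq R D K, ← Polynomial.map_map, Ideal.Quotient.algebraMap_eq, hp, hb]
      exact (algebraMap_smul K (b : D) q).symm
    have hy : (1 : K) ⊗ₜ[R] (aeval x p) = 0 := by
      have h1 : (1 : K) ⊗ₜ[R] (aeval x p) = aeval ((1 : K) ⊗ₜ[R] x) p :=
        (Polynomial.aeval_algHom_apply (Algebra.TensorProduct.includeRight : A →ₐ[R] K ⊗[R] A) x p).symm
      rw [h1, ← Polynomial.aeval_map_algebraMap K, hpK, map_smul]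
      rw [show aeval ((1 : K) ⊗ₜ[R] x) q = 0 from hq]
      exact smul_zero _
    obtain ⟨s, hs, hsy⟩ := exists_smul_mem P hy
    refine ⟨p, b' * s, fun h => (Ideal.IsPrime.mem_or_mem ‹_› h).elim hbP hs, fun C _ _ hu hP => ?_⟩
    rw [map_mul] at hu
    have hC0 : ∀ r ∈ P, algebraMap R C r = 0 := fun r hr => by
      rw [← Submodule.mem_bot C, ← hP]; exact Ideal.mem_map_of_mem _ hr
    have hz : ∀ a ∈ (P • ⊤ : Submodule R A), (1 : C) ⊗ₜ[R] a = 0 := fun a ha => by
      refine Submodule.smul_induction_on ha (fun r hr a _ => ?_) (fun a a' ha ha' => ?_)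
      · rw [← TensorProduct.smul_tmul, Algebra.smul_def, hC0 r hr, zero_mul, TensorProduct.zero_tmul]
      · rw [TensorProduct.tmul_add, ha, ha', add_zero]
    have hy0 : aeval ((1 : C) ⊗ₜ[R] x) (p.map (algebraMap R C)) = 0 := by
      have h1 := hz _ hsy
      rw [← TensorProduct.smul_tmul, Algebra.smul_def, mul_one] at h1
      have h2 : (1 : C) ⊗ₜ[R] (aeval x p) = 0 := by
        obtain ⟨w, hw⟩ := (isUnit_of_mul_isUnit_right hu)
        have h3 := congrArg ((↑w⁻¹ : C) • ·) h1
        simpa [TensorProduct.smul_tmul', ← hw] using h3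
      rw [Polynomial.aeval_map_algebraMap]
      exact (Polynomial.aeval_algHom_apply (Algebra.TensorProduct.includeRight : A →ₐ[R] C ⊗[R] A) x p).trans h2
    -- the leading coefficient is a unit
    let N := q.natDegree
    have hpN : Ideal.Quotient.mk P (p.coeff N) = (b : D) := by
      refine IsFractionRing.injective D K ?_
      have := congrArg (fun r : K[X] => r.coeff N) hpK
      simp only [Polynomial.coeff_map, Polynomial.coeff_smul, smul_eq_mul] at this
      rw [show q.coeff N = 1 from hqm, mul_one] at this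
      exact this
    have hpgt : ∀ m, N < m → p.coeff m ∈ P := fun m hm => Ideal.Quotient.eq_zero_iff_mem.1 (by
      refine IsFractionRing.injective D K ?_
      have := congrArg (fun r : K[X] => r.coeff m) hpK
      simp only [Polynomial.coeff_map, Polynomial.coeff_smul, smul_eq_mul] at this
      rw [Polynomial.coeff_eq_zero_of_natDegree_lt hm, mul_zero] at this
      exact this.trans (map_zero _).symm)
    obtain ⟨w, hw⟩ := isUnit_of_mul_isUnit_left hu
    have hlead : algebraMap R C (p.coeff N) = w := by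
      rw [hw, ← sub_eq_zero, ← map_sub]
      exact hC0 _ (Ideal.Quotient.eq.1 (hpN.trans hb'.symm))
    refine ⟨Polynomial.C (↑w⁻¹ : C) * p.map (algebraMap R C), ?_, ?_⟩
    · refine Polynomial.monic_of_natDegree_le_of_coeff_eq_one N ?_ ?_
      · refine Polynomial.natDegree_le_iff_coeff_eq_zero.2 fun m hm => ?_
        rw [Polynomial.coeff_C_mul, Polynomial.coeff_map, hC0 _ (hpgt m hm), mul_zero]
      · rw [Polynomial.coeff_C_mul, Polynomial.coeff_map, hlead, Units.inv_mul]
    · show aeval _ _ = 0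
      rw [map_mul, hy0, mul_zero]
  choose p g hg hint using key
  refine ⟨∏ x ∈ S, g x, fun h => ?_, fun C _ _ hu hP => ?_⟩
  · obtain ⟨x, hx, hgx⟩ := (Ideal.IsPrime.prod_mem_iff (hp := ‹P.IsPrime›)).1 h
    exact hg x hgx
  · rw [map_prod] at hu
    let T : Finset (C ⊗[R] A) := S.image fun x => (1 : C) ⊗ₜ[R] x
    have hT : Algebra.adjoin C (T : Set (C ⊗[R] A)) = ⊤ := by
      rw [Finset.coe_image]
      exact Algebra.TensorProduct.adjoin_one_tmul_image_eq_top _ hS
    refine ⟨?_⟩
    rw [← Algebra.top_toSubmodule, ← hT]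
    refine fg_adjoin_of_finite T.finite_toSet fun t ht => ?_
    obtain ⟨x, hx, rfl⟩ := Finset.mem_image.1 ht
    exact hint x C (isUnit_of_dvd_unit (Finset.dvd_prod_of_mem (fun x => algebraMap R C (g x)) hx) hu) hP

end Groth.L28.EtaleStrata
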